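import Cfsg.Agent.Helper28.Fi22C.Main
import Cfsg.Agent.Helper28.PermModel2
import Cfsg.Agent.Helper92.Fi23S.PcAct

set_option autoImplicit false
set_option maxRecDepth 1000000

/-!
# The word problem of the presented group `Fi22` on a base of five points, and certificate checkers

`W w` is the element of the presented group given by the word `w` of letter codes (letter `2k` is the generator
number `k`). By helper28's coset table and chain, the permutation action on 3510 points is faithful and the seven
points `18, 5, 4, 3, 2, 1, 0` have trivial pointwise stabiliser, so `W w = 1` as soon as `w` fixes these points.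
-/

namespace Cfsg.Agent.Helper92.Fi22S

open Cfsg.Agent.Helper28 Cfsg.Agent.Helper28.Fi22b Cfsg.Agent.Helper28.Fi22C Cfsg.Spor Cfsg.Agent.Helper92.Fi23S

/-- the presented group -/
abbrev GF22 : Type := PresentedGroup Fi22b.R

/-- the pointwise stabiliser of the base is trivial -/
theorem base_trivial :
    Nat.card ↥(KK idx 9 ptabs inv_ok layout.hL ⊓ fixAllN [18, 5, 4, 3, 2, 1, 0]) = 1 := by
  have h7 := level_ge gen idx 9 ptabs inv_ok layout.hL layout.hig ws7 2 let_ok7 [5, 4, 3, 2, 1, 0] fix_ok7 orb7 orb_ok7 18 (by decide +kernel) 4 _ cnt7 (le_refl _)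
  have h6 := level_ge gen idx 9 ptabs inv_ok layout.hL layout.hig ws6 1 let_ok6 [4, 3, 2, 1, 0] fix_ok6 orb6 orb_ok6 5 (by decide +kernel) 3 _ cnt6 h7
  have h5 := level_ge gen idx 9 ptabs inv_ok layout.hL layout.hig ws5 2 let_ok5 [3, 2, 1, 0] fix_ok5 orb5 orb_ok5 4 (by decide +kernel) 10 _ cnt5 h6
  have h4 := level_ge gen idx 9 ptabs inv_ok layout.hL layout.hig ws4 3 let_ok4 [2, 1, 0] fix_ok4 orb4 orb_ok4 3 (by decide +kernel) 96 _ cnt4 h5
  have h3 := level_ge gen idx 9 ptabs inv_ok layout.hL layout.hig ws3 2 let_ok3 [1, 0] fix_ok3 orb3 orb_ok3 2 (by decide +kernel) 567 _ cnt3 h4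
  have h2 := level_ge gen idx 9 ptabs inv_ok layout.hL layout.hig ws2 9 let_ok2 [0] fix_ok2 orb2 orb_ok2 1 (by decide +kernel) 2816 _ cnt2 h3
  have h1 := level_ge gen idx 9 ptabs inv_ok layout.hL layout.hig ws1 9 let_ok1 [] fix_ok1 orb1 orb_ok1 0 (by decide +kernel) 3510 _ cnt1 h2
  rw [← card_level0N] at h1
  have h0 : Nat.card ↥(KK idx 9 ptabs inv_ok layout.hL) = 64561751654400 := by
    have h := card_KK_of_injective Fi22b.R idx 9 ptabs inv_ok layout.hL Fi22C.hrels card_inj.2
    rw [card_inj.1] at h
    exact h
  rw [h0] at h1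
  have h6' := one_le_card_sub (KK idx 9 ptabs inv_ok layout.hL ⊓ fixAllN [18, 5, 4, 3, 2, 1, 0])
  omega

/-- the element given by a word -/
noncomputable def W (w : List ℕ) : GF22 := wv (gG Fi22b.R gen 9) w

theorem W_nil : W [] = 1 := rfl

theorem W_append (u w : List ℕ) : W (u ++ w) = W u * W w := wv_append _ u w

theorem W_invW (w : List ℕ) : W (invW w) = (W w)⁻¹ := wv_invW _ w

theorem W_eq_mk (w : List ℕ) : W w = PresentedGroup.mk Fi22b.R (ev gen 9 w) := wv_gG Fi22b.R gen 9 w

/-- the word fixes the five base points (and its letters are letter codes) -/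
noncomputable def fixB (w : List ℕ) : Bool :=
  w.all (fun l => Nat.blt l 18) &&
    [18, 5, 4, 3, 2, 1, 0].all (fun b => Nat.beq (trace ptabs.perm w b) b)

/-- the word moves one of the five base points (and its letters are letter codes) -/
noncomputable def moveB (w : List ℕ) : Bool :=
  w.all (fun l => Nat.blt l 18) &&
    [18, 5, 4, 3, 2, 1, 0].any (fun b => !(Nat.beq (trace ptabs.perm w b) b))

theorem letters_of_all (w : List ℕ) (h : w.all (fun l => Nat.blt l 18) = true) : ∀ l ∈ w, l < ptabs.L := by
  intro l hl
  rw [List.all_eq_true] at h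
  have := h l hl
  rw [Nat.blt_eq] at this
  exact this

theorem W_eq_one (w : List ℕ) (h : fixB w = true) : W w = 1 := by
  unfold fixB at h
  rw [Bool.and_eq_true] at h
  rw [W_eq_mk]
  refine mk_ev_eq_one_of_base Fi22b.R gen idx 9 ptabs inv_ok layout.hL Fi22C.hrels card_inj.2 layout.hig
    [18, 5, 4, 3, 2, 1, 0] base_trivial w (letters_of_all w h.1) ?_
  intro b hb
  have h2 := h.2
  rw [List.all_eq_true] at h2
  exact Nat.eq_of_beq_eq_true (h2 b hb)

theorem W_ne_one (w : List ℕ) (h : moveB w = true) : W w ≠ 1 := by
  unfold moveB at h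
  rw [Bool.and_eq_true] at h
  obtain ⟨b, hb, hb2⟩ := List.any_eq_true.mp h.2
  have hbn : b < ptabs.n := by
    simp only [List.mem_cons, List.not_mem_nil, or_false] at hb
    rcases hb with rfl | rfl | rfl | rfl | rfl | rfl | rfl <;> decide +kernel
  have hmove : trace ptabs.perm w b ≠ b := by
    intro he
    rw [he] at hb2
    simp at hb2
  intro h1
  rw [W_eq_mk] at h1
  have h2 := rhoF_ev_ne_one gen idx 9 ptabs inv_ok layout.hL layout.hig w (letters_of_all w h.1) b hbn hmove
  apply h2
  rw [← rhoG_mk Fi22b.R idx 9 ptabs inv_ok layout.hL Fi22C.hrels, h1, map_one]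

/-- the word selected from a list of words by the binary digits of `m` -/
noncomputable def wordL : List (List ℕ) → ℕ → List ℕ
  | [], _ => []
  | w :: ws, m => (if m % 2 = 1 then w else []) ++ wordL ws (m / 2)

theorem W_wordL (ws : List (List ℕ)) (m : ℕ) : W (wordL ws m) = prodL (ws.map W) m := by
  induction ws generalizing m with
  | nil => rfl
  | cons w ws ih =>
    rw [wordL, W_append, List.map_cons, prodL_cons, ih]
    split
    · rfl
    · rw [W_nil]

/-- conjugating the words `xs` by `u` gives the words selected from `ws` by the numbers `ms` -/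
noncomputable def rowsOK (ws : List (List ℕ)) (u : List ℕ) : List (List ℕ) → List ℕ → Bool
  | [], [] => true
  | x :: xs, m :: ms => fixB (invW u ++ (x ++ (u ++ invW (wordL ws m)))) && rowsOK ws u xs ms
  | _, _ => false

theorem rowsOK_sound (ws : List (List ℕ)) (u : List ℕ) :
    ∀ (xs : List (List ℕ)) (ms : List ℕ), rowsOK ws u xs ms = true →
      List.Forall₂ (fun d r => (W u)⁻¹ * d * W u = prodL (ws.map W) r) (xs.map W) ms := by
  intro xs
  induction xs with
  | nil =>
    intro ms h
    cases ms with
    | nil => exact List.Forall₂.nil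
    | cons m ms => simp [rowsOK] at h
  | cons x xs ih =>
    intro ms h
    cases ms with
    | nil => simp [rowsOK] at h
    | cons m ms =>
      rw [rowsOK, Bool.and_eq_true] at h
      refine List.Forall₂.cons ?_ (ih ms h.2)
      have h1 := W_eq_one _ h.1
      rw [W_append, W_append, W_append, W_invW, W_invW, W_wordL] at h1
      have h2 : (W u)⁻¹ * W x * W u * (prodL (ws.map W) m)⁻¹ = 1 := by
        rw [← h1]; group
      exact mul_inv_eq_one.mp h2

/-- the polycyclic certificate -/
noncomputable def pcCheck : List (List ℕ) → List (List ℕ) → Bool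
  | [], _ => true
  | u :: ws, c :: cs => fixB (u ++ u) && rowsOK ws u ws c && pcCheck ws cs
  | _ :: _, [] => false

theorem pcCheck_sound : ∀ (ws cs : List (List ℕ)), pcCheck ws cs = true → PcOK (ws.map W) := by
  intro ws
  induction ws with
  | nil => intro cs _; trivial
  | cons u ws ih =>
    intro cs h
    cases cs with
    | nil => simp [pcCheck] at h
    | cons c cs =>
      rw [pcCheck, Bool.and_eq_true, Bool.and_eq_true] at h
      obtain ⟨⟨h1, h2⟩, h3⟩ := h
      refine ⟨ih cs h3, ?_, ?_⟩
      · have := W_eq_one _ h1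
        rw [W_append] at this
        rw [this]; exact one_mem _
      · intro x hx
        have hf := rowsOK_sound ws u ws c h2
        obtain ⟨x0, hx0, rfl⟩ := List.mem_map.mp hx
        -- find the row of `x0`
        have : ∀ (ds : List GF22) (rs : List ℕ),
            List.Forall₂ (fun d r => (W u)⁻¹ * d * W u = prodL (ws.map W) r) ds rs →
            ∀ d ∈ ds, (W u)⁻¹ * d * W u ∈ clL (ws.map W) := by
          intro ds rs hfr
          induction hfr with
          | nil => intro d hd; simp at hd
          | cons hd _ ih2 =>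
            intro d hdm
            rcases List.mem_cons.mp hdm with rfl | hdm
            · rw [hd]; exact prodL_mem _ _
            · exact ih2 d hdm
        exact this _ _ hf _ (List.mem_map.mpr ⟨x0, hx0, rfl⟩)

/-- the commuting-involutions certificate -/
noncomputable def commCheck : List (List ℕ) → Bool
  | [] => true
  | u :: ws => fixB (u ++ u) && ws.all (fun x => fixB (u ++ (x ++ (invW u ++ invW x)))) && commCheck ws

theorem commCheck_sound : ∀ (ws : List (List ℕ)), commCheck ws = true → CommInv (ws.map W) := by
  intro ws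
  induction ws with
  | nil => intro _; exact ⟨by simp, by simp⟩
  | cons u ws ih =>
    intro h
    rw [commCheck, Bool.and_eq_true, Bool.and_eq_true] at h
    obtain ⟨⟨h1, h2⟩, h3⟩ := h
    have hI := ih h3
    have hu2 : W u * W u = 1 := by rw [← W_append]; exact W_eq_one _ h1
    have hcomm : ∀ x ∈ ws, W u * W x = W x * W u := by
      intro x hx
      rw [List.all_eq_true] at h2
      have := W_eq_one _ (h2 x hx)
      rw [W_append, W_append, W_append, W_invW, W_invW] at this
      have h4 : W u * W x * (W u)⁻¹ * (W x)⁻¹ = 1 := by rw [← this]; group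
      have h5 := mul_inv_eq_one.mp h4
      calc W u * W x = W u * W x * (W u)⁻¹ * W u := by group
        _ = W x * W u := by rw [h5]
    constructor
    · intro x hx
      rw [List.map_cons] at hx
      rcases List.mem_cons.mp hx with rfl | hx
      · exact hu2
      · exact hI.1 x hx
    · intro x hx y hy
      rw [List.map_cons] at hx hy
      rcases List.mem_cons.mp hx with rfl | hx <;> rcases List.mem_cons.mp hy with rfl | hy
      · rfl
      · obtain ⟨y0, hy0, rfl⟩ := List.mem_map.mp hy
        exact hcomm y0 hy0
      · obtain ⟨x0, hx0, rfl⟩ := List.mem_map.mp hx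
        exact (hcomm x0 hx0).symm
      · exact hI.2 x hx y hy

/-- the certificate for the action of the words `us` on the commuting involutions `ds` -/
noncomputable def actCheck (ds : List (List ℕ)) : List (List ℕ) → List (List ℕ) → Bool
  | [], [] => true
  | u :: us, M :: Ms => rowsOK ds u ds M && actCheck ds us Ms
  | _, _ => false

theorem actCheck_sound (ds : List (List ℕ)) :
    ∀ (us : List (List ℕ)) (Ms : List (List ℕ)), actCheck ds us Ms = true →
      List.Forall₂ (fun t M => List.Forall₂ (fun d r => t⁻¹ * d * t = prodL (ds.map W) r) (ds.map W) M)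
        (us.map W) Ms := by
  intro us
  induction us with
  | nil =>
    intro Ms h
    cases Ms with
    | nil => exact List.Forall₂.nil
    | cons M Ms => simp [actCheck] at h
  | cons u us ih =>
    intro Ms h
    cases Ms with
    | nil => simp [actCheck] at h
    | cons M Ms =>
      rw [actCheck, Bool.and_eq_true] at h
      exact List.Forall₂.cons (rowsOK_sound ds u ds M h.1) (ih Ms h.2)

end Cfsg.Agent.Helper92.Fi22S
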