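import Cfsg.Agent.Helper92.Fi23S.PcAct

set_option autoImplicit false

/-!
# Boolean checkers for the numerical conditions on the action matrices, with their soundness
-/

namespace Cfsg.Agent.Helper92.Fi22S

open Cfsg.Agent.Helper92.Fi23S

/-- all rows of all matrices are below `1024` -/
def rowsLt (Ms : List (List ℕ)) : Bool := Ms.all fun M => M.all fun r => decide (r < 1024)

theorem vmL_lt (rows : List ℕ) (h : ∀ r ∈ rows, r < 2 ^ 10) (v : ℕ) : vmL rows v < 2 ^ 10 := by
  induction rows generalizing v with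
  | nil => rw [vmL_nil]; norm_num
  | cons r rs ih =>
    rw [vmL_cons]
    apply Nat.xor_lt_two_pow
    · split
      · exact h r List.mem_cons_self
      · norm_num
    · exact ih (fun r' hr' => h r' (List.mem_cons_of_mem _ hr')) _

theorem actL_lt (Ms : List (List ℕ)) (h : ∀ M ∈ Ms, ∀ r ∈ M, r < 2 ^ 10) (e v : ℕ) (hv : v < 2 ^ 10) :
    actL Ms e v < 2 ^ 10 := by
  induction Ms generalizing e v with
  | nil => rw [actL_nil]; exact hv
  | cons M Ms ih =>
    rw [actL_cons]
    apply ih (fun M' hM' => h M' (List.mem_cons_of_mem _ hM'))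
    split
    · exact vmL_lt M (h M List.mem_cons_self) v
    · exact hv

theorem actL_lt_of_rowsLt (Ms : List (List ℕ)) (h : rowsLt Ms = true) (e v : ℕ) (hv : v < 1024) :
    actL Ms e v < 1024 := by
  have h2 : (1024 : ℕ) = 2 ^ 10 := by norm_num
  rw [h2] at hv ⊢
  apply actL_lt Ms _ e v hv
  intro M hM r hr
  unfold rowsLt at h
  rw [List.all_eq_true] at h
  have h3 := h M hM
  rw [List.all_eq_true] at h3
  have h4 := h3 r hr
  rw [decide_eq_true_eq] at h4
  rw [← h2]; exact h4

/-- two basis vectors that, with their sum, are moved by `act e` -/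
def c1B (Ms : List (List ℕ)) (e : ℕ) : Bool :=
  (List.range 10).any fun j1 => (List.range 10).any fun j2 =>
    (actL Ms e (2 ^ j1) != 2 ^ j1) && ((actL Ms e (2 ^ j2) != 2 ^ j2) &&
      (actL Ms e (2 ^ j1 ^^^ 2 ^ j2) != (2 ^ j1 ^^^ 2 ^ j2)))

/-- `c1B` for all `0 < e < 128` -/
def c1All (Ms : List (List ℕ)) : Bool := (List.range 128).all fun e => (e == 0) || c1B Ms e

theorem c1All_sound (Ms : List (List ℕ)) (h : c1All Ms = true) :
    ∀ e < 128, 0 < e → ∃ j1 < 10, ∃ j2 < 10, actL Ms e (2 ^ j1) ≠ 2 ^ j1 ∧ actL Ms e (2 ^ j2) ≠ 2 ^ j2 ∧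
      actL Ms e (2 ^ j1 ^^^ 2 ^ j2) ≠ 2 ^ j1 ^^^ 2 ^ j2 := by
  intro e he hpos
  unfold c1All at h
  rw [List.all_eq_true] at h
  have h1 := h e (List.mem_range.mpr he)
  rw [Bool.or_eq_true] at h1
  rcases h1 with h1 | h1
  · simp at h1; omega
  · unfold c1B at h1
    obtain ⟨j1, hj1, h2⟩ := List.any_eq_true.mp h1
    obtain ⟨j2, hj2, h3⟩ := List.any_eq_true.mp h2
    rw [Bool.and_eq_true, Bool.and_eq_true] at h3
    exact ⟨j1, List.mem_range.mp hj1, j2, List.mem_range.mp hj2, by simpa using h3.1, by simpa using h3.2.1,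
      by simpa using h3.2.2⟩

/-- the table `nv` lists, for each `e`, vectors of the form `2 ^ j + act e (2 ^ j)` -/
def nvecsOK (Ms : List (List ℕ)) (nv : List (List ℕ)) : Bool :=
  (List.range 128).all fun e => (nv.getD e []).all fun n =>
    (List.range 10).any fun j => n == (2 ^ j ^^^ actL Ms e (2 ^ j))

/-- no quadratic pairs: some vector of the table of `e` is moved by `act e'` -/
def c2All (Ms : List (List ℕ)) (nv : List (List ℕ)) : Bool :=
  (List.range 128).all fun e => (List.range 128).all fun e' =>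
    ((e == 0) || ((e' == 0) || (e == e'))) || (nv.getD e []).any fun n => actL Ms e' n != n

theorem c2All_sound (Ms : List (List ℕ)) (nv : List (List ℕ)) (hnv : nvecsOK Ms nv = true)
    (h : c2All Ms nv = true) :
    ∀ e < 128, ∀ e' < 128, 0 < e → 0 < e' → e ≠ e' →
      ∃ j < 10, (2 ^ j ^^^ actL Ms e (2 ^ j)) ^^^ actL Ms e' (2 ^ j ^^^ actL Ms e (2 ^ j)) ≠ 0 := by
  intro e he e' he' hpos hpos' hne
  unfold c2All at h
  rw [List.all_eq_true] at h
  have h1 := h e (List.mem_range.mpr he)
  rw [List.all_eq_true] at h1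
  have h2 := h1 e' (List.mem_range.mpr he')
  rw [Bool.or_eq_true] at h2
  rcases h2 with h2 | h2
  · simp at h2; omega
  · obtain ⟨n, hn, h3⟩ := List.any_eq_true.mp h2
    unfold nvecsOK at hnv
    rw [List.all_eq_true] at hnv
    have h4 := hnv e (List.mem_range.mpr he)
    rw [List.all_eq_true] at h4
    obtain ⟨j, hj, h5⟩ := List.any_eq_true.mp (h4 n hn)
    have h6 : n = 2 ^ j ^^^ actL Ms e (2 ^ j) := by simpa using h5
    refine ⟨j, List.mem_range.mp hj, ?_⟩
    rw [← h6]
    intro h7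
    have h8 : n = actL Ms e' n := Nat.xor_eq_zero_iff.mp h7
    have h9 : actL Ms e' n ≠ n := by simpa using h3
    exact h9 h8.symm

/-- the action is faithful -/
def c3All (Ms : List (List ℕ)) : Bool :=
  (List.range 128).all fun e => (List.range 128).all fun e' =>
    (e == e') || (List.range 10).any fun j => actL Ms e (2 ^ j) != actL Ms e' (2 ^ j)

theorem c3All_sound (Ms : List (List ℕ)) (h : c3All Ms = true) :
    ∀ e < 128, ∀ e' < 128, e ≠ e' → ∃ j < 10, actL Ms e (2 ^ j) ≠ actL Ms e' (2 ^ j) := by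
  intro e he e' he' hne
  unfold c3All at h
  rw [List.all_eq_true] at h
  have h1 := h e (List.mem_range.mpr he)
  rw [List.all_eq_true] at h1
  have h2 := h1 e' (List.mem_range.mpr he')
  rw [Bool.or_eq_true] at h2
  rcases h2 with h2 | h2
  · simp at h2; omega
  · obtain ⟨j, hj, h3⟩ := List.any_eq_true.mp h2
    exact ⟨j, List.mem_range.mp hj, by simpa using h3⟩

end Cfsg.Agent.Helper92.Fi22S
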