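import Cfsg.Agent.Helper92.Fi22S.Base
import Cfsg.Agent.Helper92.Fi22S.Check
import Cfsg.Agent.Helper92.Fi22S.Data

set_option autoImplicit false
set_option maxRecDepth 1000000

/-!
# The certificates (kernel computations)
-/

namespace Cfsg.Agent.Helper92.Fi22S

open Cfsg.Agent.Helper92.Fi23S

theorem pc_ok : pcCheck (twords ++ dwords) certs = true := by decide +kernel

theorem comm_ok : commCheck dwords = true := by decide +kernel

theorem act_ok : actCheck dwords twords Ms = true := by decide +kernel

theorem inj_ok : ∀ v < 1024, 0 < v → moveB (wordL dwords v) = true := by decide +kernel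

theorem rows_ok : rowsLt Ms = true := by decide +kernel

theorem c1_ok : c1All Ms = true := by decide +kernel

theorem nvecs_ok : nvecsOK Ms nvecs = true := by decide +kernel

theorem c2_ok : c2All Ms nvecs = true := by decide +kernel

theorem c3_ok : c3All Ms = true := by decide +kernel

end Cfsg.Agent.Helper92.Fi22S
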