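import Cfsg.Agent.Helper92.Fi22S.Cert
import Cfsg.Agent.Helper92.Fi22S.PcFinal
import Cfsg.Prelude.Def_Spor_Fi22

set_option autoImplicit false
set_option maxRecDepth 100000

/-!
# A Sylow 2-subgroup of the presented group `Fi22` and its normal elementary abelian subgroup of order `2^10`

`T0` is generated by 17 explicit words (`Data`); the certificates (`Cert`) show that it is a polycyclic 2-group of
order `2^17` with the elementary abelian normal subgroup `E0` of order `2^10` generated by 10 commuting conjugates of
generators, that `T0 / E0` acts faithfully on `E0` without quadratic pairs and that every non-identity element of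
`T0 / E0` has a fixed space of index at least `4` in `E0`. By `PcModel22.final` every normal elementary abelian
subgroup of `T0` of order `2^10` is `E0`.
-/

namespace Cfsg.Agent.Helper92.Fi22S

open Cfsg.Agent.Helper28 Cfsg.Agent.Helper28.Fi22b Cfsg.Agent.Helper28.Fi22C Cfsg.Spor Cfsg.Agent.Helper92.Fi23S

/-- the generators outside `E0` -/
noncomputable def ts : List GF22 := twords.map W
/-- the generators of `E0` -/
noncomputable def ds : List GF22 := dwords.map W

/-- a Sylow 2-subgroup -/
noncomputable def T0 : Subgroup GF22 := clL (ts ++ ds)
/-- its elementary abelian normal subgroup of order `2^10` -/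
noncomputable def E0 : Subgroup GF22 := clL ds

theorem pcOK_all : PcOK (ts ++ ds) := by
  have h := pcCheck_sound (twords ++ dwords) certs pc_ok
  rwa [List.map_append] at h

theorem commInv_ds : CommInv ds := commCheck_sound dwords comm_ok

theorem length_ts : ts.length = 7 := by
  unfold ts; rw [List.length_map]; decide

theorem length_ds : ds.length = 10 := by
  unfold ds; rw [List.length_map]; decide

theorem clL_ts_le : clL ts ≤ T0 :=
  Subgroup.closure_mono (fun _ hx => List.mem_append_left _ hx)

theorem E0_le : E0 ≤ T0 :=
  Subgroup.closure_mono (fun _ hx => List.mem_append_right _ hx)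

/-- the model -/
noncomputable def model : PcModel22 T0 E0 where
  τ := prodL ts
  δ := prodL ds
  act := actL Ms
  hT := by
    intro y hy
    obtain ⟨m, hm, rfl⟩ := nf_of_pcOK (ts ++ ds) pcOK_all y hy
    rw [List.length_append, length_ts, length_ds] at hm
    have hm' : m < 131072 := by norm_num at hm; exact hm
    refine ⟨m % 128, Nat.mod_lt _ (by norm_num), m / 128, by omega, ?_⟩
    rw [prodL_append, length_ts]
    norm_num
  hτT := fun e _ => clL_ts_le (prodL_mem ts e)
  hτ0 := prodL_zero ts
  hδE := fun v _ => prodL_mem ds v
  hE := by
    intro y hy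
    obtain ⟨m, hm, rfl⟩ := nf_of_pcOK ds (pcOK_of_commInv ds commInv_ds) y hy
    rw [length_ds] at hm
    exact ⟨m, by norm_num at hm; exact hm, rfl⟩
  hET := E0_le
  hxor := prodL_xor ds commInv_ds
  hinj := by
    intro v hv h1
    by_contra hne
    have hpos : 0 < v := Nat.pos_of_ne_zero hne
    have h2 := W_ne_one _ (inj_ok v hv hpos)
    rw [W_wordL] at h2
    exact h2 h1
  hact := fun e _ v _ => conj_tprod ds commInv_ds ts Ms (actCheck_sound dwords twords Ms act_ok) e v
  hactlt := fun e _ v hv => actL_lt_of_rowsLt Ms rows_ok e v hv
  hC1 := c1All_sound Ms c1_ok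
  hC2 := c2All_sound Ms nvecs nvecs_ok c2_ok
  hC3 := c3All_sound Ms c3_ok

theorem card_GF22 : Nat.card GF22 = 64561751654400 := card_inj.1

instance finite_GF22 : Finite GF22 := Nat.finite_of_card_ne_zero (by rw [card_GF22]; norm_num)

theorem factorization_two : (64561751654400 : ℕ).factorization 2 = 17 := by
  have h : (64561751654400 : ℕ) = 2 ^ 17 * 492567075 := by norm_num
  rw [h, Nat.factorization_mul (by norm_num) (by norm_num), Nat.Prime.factorization_pow Nat.prime_two]
  simp
  apply Nat.factorization_eq_zero_of_not_dvd
  norm_num

end Cfsg.Agent.Helper92.Fi22S
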